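import Cfsg.Agent.Lib.Recog.SporBound.Sound
import Cfsg.Agent.Lib.Recog.SporBound.SpSixTop.Tree0

set_option autoImplicit false
set_option maxRecDepth 20000

/-! Generated closure certificate: S3342 model, <abcdef> over <a,b,c,d,e> (owner: helper24). -/

namespace CfsgLib.Recog.SporBound.SpSixTop
open CfsgLib.Recog.SporBound

noncomputable def factTree : Q (ℕ) := (.node ft0 ft1 (.leaf 0) (.leaf 0))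
noncomputable def nodeTree : Q (ℕ) := ct0
noncomputable def stepTree : Q (List ℕ) := (.node st0 st1 (.leaf []) (.leaf []))
noncomputable def finalTree : Q (List ℕ) := (.node et0 et1 et2 (.leaf []))

/-- The certificate. -/
noncomputable def cert : Cert where
  n := 28
  nd := 69
  nf := 187
  kl := [0, 1, 2, 3, 4, 5]
  facts := factTree
  cn := nodeTree
  steps := stepTree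
  finals := finalTree
  rels := [[0, 0], [1, 1], [2, 2], [3, 3], [4, 4], [5, 5], [0, 1, 0, 1, 0, 1], [2, 3, 2, 3, 2, 3], [0, 1, 2, 0, 1, 2, 1, 0, 2, 1, 0, 2], [0, 1, 2, 0, 2, 1, 0, 2, 0, 2], [0, 2, 0, 2, 0, 2, 0, 2], [2, 3, 2, 0, 1, 2, 3, 2, 3, 2, 1, 0, 2, 3], [2, 3, 2, 0, 2, 3, 2, 3, 2, 0, 2, 3], [3, 0, 1, 3, 1, 0], [3, 0, 3, 0], [0, 2, 0, 2, 3, 2, 0, 2, 3, 4, 0, 1, 2, 0, 1, 2, 3, 2, 0, 1, 2, 3, 4, 3, 2, 0, 2, 3, 2, 0, 2, 0, 3, 2, 1, 0, 2, 3, 2, 1, 0, 2, 1, 0], [0, 2, 0, 2, 3, 2, 0, 2, 3, 4, 2, 0, 1, 2, 3, 2, 1, 0, 2, 3, 4, 3, 2, 0, 2, 3, 2, 0, 2, 0, 3, 2], [0, 2, 0, 2, 3, 2, 0, 2, 3, 4, 2, 3, 4, 3, 2, 0, 2, 3, 2, 0, 2, 0, 2, 0, 1, 2, 3, 2, 1, 0, 2, 3], [0, 2, 0, 2, 3, 2, 0, 2, 3, 4, 0, 2, 0, 2, 3, 2, 0, 2, 3, 4, 3], [0,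 1, 3, 1, 0, 3], [0, 1, 0, 2, 0, 2, 3, 2, 0, 2, 3, 4, 0, 1, 0, 2, 0, 2, 3, 2, 0, 2, 3, 4, 0, 1, 0, 2, 0, 2, 3, 2, 0, 2, 3, 4, 3], [5, 0, 5, 0], [5, 0, 1, 5, 1, 0], [5, 2, 0, 2, 5, 2, 0, 2], [5, 3, 2, 0, 2, 3, 5, 3, 2, 0, 2, 3], [5, 3, 5, 3], [5, 2, 0, 1, 2, 5, 2, 0, 1, 2, 5, 2, 0, 1, 2, 5, 2, 0, 1, 2], [5, 2, 0, 2, 2, 0, 1, 2, 5, 2, 0, 2, 2, 0, 1, 2, 5, 2, 0, 2, 2, 0, 1, 2], [5, 2, 0, 1, 2, 3, 2, 0, 1, 2, 3, 5, 2, 0, 1, 2, 3, 2, 0, 1, 2, 3, 5, 2, 0, 1, 2, 3, 2, 0, 1, 2, 3, 5, 2, 0, 1, 2, 3, 2, 0, 1, 2, 3, 5, 2, 0, 1, 2, 3, 2, 0, 1, 2, 3, 5, 2, 0, 1, 2, 3, 2, 0, 1, 2, 3], [5, 2, 0, 1, 2, 3, 2, 1, 0, 2, 3, 5, 2, 0, 1, 2, 3, 2, 1, 0, 2, 3, 5, 2, 0, 1, 2, 3, 2, 1, 0, 2, 3, 5, 2, 0, 1, 2, 3, 2, 1, 0, 2, 3, 5, 2, 0, 1, 2, 3, 2, 1,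 0, 2, 3, 5, 2, 0, 1, 2, 3, 2, 1, 0, 2, 3], [5, 2, 0, 1, 2, 5, 2, 1, 0, 2, 5, 2, 0, 1, 2, 5, 2, 1, 0, 2, 5, 2, 0, 1, 2, 5, 2, 1, 0, 2], [5, 2, 0, 1, 2, 3, 2, 0, 1, 2, 3, 5, 3, 2, 1, 0, 2, 3, 2, 1, 0, 2, 2, 0, 1, 2, 3, 2, 0, 1, 2, 3, 2, 0, 1, 2, 3, 2, 0, 1, 2, 3, 5, 3, 2, 1, 0, 2, 3, 2, 1, 0, 2, 3, 2, 1, 0, 2, 3, 2, 1, 0, 2, 3], [0, 2, 0, 2, 3, 2, 0, 2, 3, 4, 5, 4, 3, 2, 0, 2, 3, 2, 0, 2, 0, 5]]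
  subs := [[0], [1], [2], [3], [4]]

/-- Chains of the traced words. -/
noncomputable def closers : List ℕ := []

end CfsgLib.Recog.SporBound.SpSixTop
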